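import Groth.Prelude.Def_DeRham
import Mathlib

/-!
# Lifting forms from intersections of coordinate hyperplanes
-/

set_option autoImplicit false
set_option linter.unusedSectionVars false

universe u

open exteriorPower KaehlerDifferential

noncomputable section

namespace Groth.Agent.CechLift2

variable (k : Type u) [CommRing k] {A : Type u} [CommRing A] [Algebra k A]
  {d n : ℕ} (t : Fin d → A) (e : Fin n ↪ Fin d)

abbrev Id (I : Finset (Fin n)) : Ideal A := ⨆ i ∈ I, Ideal.span {t (e i)}

abbrev Q (I : Finset (Fin n)) : Type u := A ⧸ Id t e I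

abbrev π (I : Finset (Fin n)) : A →+* Q t e I := Ideal.Quotient.mk _

theorem π_eq_zero {I : Finset (Fin n)} {i : Fin n} (hi : i ∈ I) : π t e I (t (e i)) = 0 :=
  Ideal.Quotient.eq_zero_iff_mem.mpr
    (le_iSup₂ (f := fun j (_ : j ∈ I) => Ideal.span {t (e j)}) i hi (Ideal.mem_span_singleton_self _))

/-- Coordinates transversal to the stratum. -/
abbrev comp (J : Finset (Fin n)) : Finset (Fin d) := Finset.univ \ J.map e

theorem span_D_quot (hspan : Submodule.span A (Set.range fun x => D k A (t x)) = ⊤)
    (J : Finset (Fin n)) :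
    Submodule.span (Q t e J) ((fun x => D k (Q t e J) (π t e J (t x))) '' (comp e J : Set (Fin d))) = ⊤ := by
  refine eq_top_iff.mpr fun y hy => ?_
  clear hy
  obtain ⟨x, rfl⟩ := KaehlerDifferential.map_surjective_of_surjective (R := k) (S := k) (A := A)
    (B := Q t e J) Ideal.Quotient.mk_surjective y
  have hx : x ∈ Submodule.span A (Set.range fun x => D k A (t x)) := by
    rw [hspan]; exact Submodule.mem_top
  induction hx using Submodule.span_induction with
  | mem z hz =>
    obtain ⟨x, rfl⟩ := hz
    rw [show KaehlerDifferential.map k k A (Q t e J) (D k A (t x)) = D k (Q t e J) (π t e J (t x)) from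
      KaehlerDifferential.map_D k k A (Q t e J) (t x)]
    by_cases hc : x ∈ comp e J
    · exact Submodule.subset_span ⟨x, hc, rfl⟩
    · obtain ⟨i, hi, rfl⟩ : ∃ i ∈ J, e i = x := by simpa [comp] using hc
      rw [π_eq_zero t e hi, map_zero]
      exact zero_mem _
  | zero => rw [map_zero]; exact zero_mem _
  | add a b _ _ ha hb => rw [map_add]; exact add_mem ha hb
  | smul c a _ ha =>
    rw [map_smul, ← algebraMap_smul (Q t e J) c]
    exact Submodule.smul_mem _ _ ha

theorem card_comp {s m : ℕ} (hs : s + 1 + m = d) {J : Finset (Fin n)} (hJ : J.card = s + 1) :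
    (comp e J).card = m := by
  rw [Finset.card_univ_sdiff, Finset.card_map, hJ, Fintype.card_fin]
  omega

variable {s m : ℕ} (hs : s + 1 + m = d)

/-- The monomial form in the transversal coordinates of `J`, read on the stratum `I`. -/
def w (J : Finset (Fin n)) (hJ : J.card = s + 1) (I : Finset (Fin n)) :
    ↥(⋀[Q t e I]^m (Ω[Q t e I⁄k])) :=
  ιMulti (Q t e I) m fun i =>
    D k (Q t e I) (π t e I (t ((comp e J).orderEmbOfFin (card_comp e hs hJ) i)))

theorem exists_coeff (hspan : Submodule.span A (Set.range fun x => D k A (t x)) = ⊤)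
    (J : Finset (Fin n)) (hJ : J.card = s + 1) (g : ↥(⋀[Q t e J]^m (Ω[Q t e J⁄k]))) :
    ∃ a : A, g = π t e J a • w k t e hs J hJ J := by
  suffices h : g ∈ Submodule.span (Q t e J) {w k t e hs J hJ J} by
    obtain ⟨c, hc⟩ := Submodule.mem_span_singleton.mp h
    obtain ⟨a, rfl⟩ := Ideal.Quotient.mk_surjective c
    exact ⟨a, hc.symm⟩
  have htop := ιMulti_span_of_span (Q t e J) m (Ω[Q t e J⁄k]) (span_D_quot k t e hspan J)
  have hg : g ∈ Submodule.span (Q t e J) (ιMulti (Q t e J) m ''
      {a | Set.range a ⊆ ((fun x => D k (Q t e J) (π t e J (t x))) '' (comp e J : Set (Fin d)))}) := by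
    rw [htop]; exact Submodule.mem_top
  refine (Submodule.span_le.mpr ?_ : _ ≤ Submodule.span (Q t e J) {w k t e hs J hJ J}) hg
  rintro _ ⟨v, hv, rfl⟩
  choose f hfmem hfv using fun i => hv ⟨i, rfl⟩
  have hv' : v = fun i => D k (Q t e J) (π t e J (t (f i))) := funext fun i => (hfv i).symm
  rw [hv', SetLike.mem_coe]
  by_cases hinj : Function.Injective f
  · set K := (comp e J).orderEmbOfFin (card_comp e hs hJ) with hK
    have hK' : ∀ i, ∃ j, K j = f i := fun i => by
      have : f i ∈ Set.range K := by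
        rw [hK, Finset.range_orderEmbOfFin]; exact hfmem i
      exact this
    choose σ hσ using hK'
    have hσinj : Function.Injective σ := fun a b h => hinj (by rw [← hσ a, ← hσ b, h])
    let σ' : Equiv.Perm (Fin m) := Equiv.ofBijective σ (Finite.injective_iff_bijective.mp hσinj)
    have he : (fun i => D k (Q t e J) (π t e J (t (f i)))) =
        (fun i => D k (Q t e J) (π t e J (t (K i)))) ∘ σ' := funext fun i => by
      simp [σ', hσ]
    rw [he, AlternatingMap.map_perm]
    exact Submodule.smul_of_tower_mem _ _ (Submodule.subset_span rfl)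
  · obtain ⟨i, j, hij, hne⟩ : ∃ i j, f i = f j ∧ i ≠ j := by
      simpa [Function.Injective] using hinj
    rw [(ιMulti (Q t e J) m).map_eq_zero_of_eq _ (by simp only [hij]) hne]
    exact zero_mem _

variable (ψ : ∀ (I J : Finset (Fin n)) (p : ℕ),
    ↥(⋀[Q t e I]^p (Ω[Q t e I⁄k])) →+ ↥(⋀[Q t e J]^p (Ω[Q t e J⁄k])))
  (hψ : ∀ (I J : Finset (Fin n)) (h : I ⊆ J),
    DeRham.IsCxMap (D k (Q t e I)) (D k (Q t e J)) (Ideal.Quotient.factor (biSup_mono h)) (ψ I J))

include hψ in
theorem ψ_smul_w {I J : Finset (Fin n)} (h : I ⊆ J) (a : A) (K : Finset (Fin n)) (hK : K.card = s + 1) :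
    ψ I J m (π t e I a • w k t e hs K hK I) = π t e J a • w k t e hs K hK J :=
  hψ I J h m (π t e I a) fun i => π t e I (t ((comp e K).orderEmbOfFin (card_comp e hs hK) i))

include hs hψ in
theorem exists_lift (hspan : Submodule.span A (Set.range fun x => D k A (t x)) = ⊤)
    (g : ∀ J : Finset (Fin n), ↥(⋀[Q t e J]^m (Ω[Q t e J⁄k]))) :
    ∃ ω : ∀ I : Finset (Fin n), ↥(⋀[Q t e I]^m (Ω[Q t e I⁄k])),
      ∀ J : Finset (Fin n), J.card = s + 1 →
        (∑ j ∈ J.attach,
          ((-1 : ℤ) ^ (J.filter (fun i => i < j.1)).card) •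
            ψ (J.erase j.1) J m (ω (J.erase j.1))) = g J := by
  classical
  choose a ha using fun (J : Finset (Fin n)) (hJ : J.card = s + 1) =>
    exists_coeff k t e hs hspan J hJ (g J)
  let T : Finset (Fin n) → ∀ I : Finset (Fin n), ↥(⋀[Q t e I]^m (Ω[Q t e I⁄k])) := fun K I =>
    if hK : K.card = s + 1 then π t e I (a K hK) • w k t e hs K hK I else 0
  let ω : ∀ I : Finset (Fin n), ↥(⋀[Q t e I]^m (Ω[Q t e I⁄k])) := fun I =>
    ∑ j ∈ Finset.univ.filter (fun j => j ∉ I ∧ ∀ i ∈ I, j < i), T (insert j I) I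
  refine ⟨ω, fun J hJ => ?_⟩
  have hne : J.Nonempty := Finset.card_pos.mp (by omega)
  have key : ∀ (j : Fin n), j ∈ J → ∀ j' : Fin n, j' ∉ J.erase j →
      ψ (J.erase j) J m (T (insert j' (J.erase j)) (J.erase j)) =
        if j' = j then g J else 0 := by
    intro j hj j' hj'
    have hcard : (insert j' (J.erase j)).card = s + 1 := by
      rw [Finset.card_insert_of_notMem hj', Finset.card_erase_of_mem hj]; omega
    simp only [T, dif_pos hcard]
    rw [ψ_smul_w k t e hs ψ hψ (Finset.erase_subset _ _)]
    split_ifs with hjj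
    · subst hjj
      have he : insert j' (J.erase j') = J := Finset.insert_erase hj
      have aux : ∀ (K : Finset (Fin n)) (hK : K.card = s + 1), K = J →
          π t e J (a K hK) • w k t e hs K hK J = g J := by
        intro K hK hKJ
        subst hKJ
        exact (ha K hK).symm
      exact aux _ hcard he
    · have hmem : e j ∈ comp e (insert j' (J.erase j)) := by
        simp [comp, Ne.symm hjj]
      obtain ⟨i, hi⟩ : e j ∈ Set.range ((comp e (insert j' (J.erase j))).orderEmbOfFin
          (card_comp e hs hcard)) := by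
        rw [Finset.range_orderEmbOfFin]; exact hmem
      rw [w, (ιMulti (Q t e J) m).map_coord_zero i (by rw [hi, π_eq_zero t e hj, map_zero]), smul_zero]
  have hω : ∀ j ∈ J, ψ (J.erase j) J m (ω (J.erase j)) = if j = J.min' hne then g J else 0 := by
    intro j hj
    simp only [ω, map_sum]
    rw [Finset.sum_congr rfl fun j' hj' => key j hj j' (Finset.mem_filter.mp hj').2.1,
      Finset.sum_ite_eq']
    refine if_congr ?_ rfl rfl
    simp only [Finset.mem_filter, Finset.mem_univ, true_and, Finset.mem_erase, ne_eq, not_true,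
      false_and, not_false_eq_true]
    constructor
    · intro h
      refine le_antisymm (Finset.le_min' _ _ _ fun i hi => ?_) (Finset.min'_le _ _ hj)
      rcases eq_or_ne i j with rfl | hij
      · exact le_rfl
      · exact (h i ⟨hij, hi⟩).le
    · intro h i hi
      exact lt_of_le_of_ne (h ▸ Finset.min'_le _ _ hi.2) (Ne.symm hi.1)
  rw [Finset.sum_attach J fun j => ((-1 : ℤ) ^ (J.filter (fun i => i < j)).card) •
    ψ (J.erase j) J m (ω (J.erase j))]
  rw [Finset.sum_eq_single (J.min' hne)]
  · have h0 : J.filter (fun i => i < J.min' hne) = ∅ :=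
      Finset.filter_eq_empty_iff.mpr fun i hi => not_lt.mpr (Finset.min'_le _ _ hi)
    rw [hω _ (Finset.min'_mem _ _), if_pos rfl, h0, Finset.card_empty, pow_zero, one_smul]
  · intro j hj hjne
    rw [hω j hj, if_neg hjne, smul_zero]
  · intro h
    exact absurd (Finset.min'_mem _ _) h

end Groth.Agent.CechLift2
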